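import Mathlib

/-!
# Picardification of a symmetric monoidal groupoid

Objects: formal words in the objects of `A`, a unit, tensors and inverses.
Morphisms: formal composites of structure maps, two being identified when their values agree in
every model (a commutative Picard category with a lax braided functor from `A` and chosen inverse
objects).
-/

set_option autoImplicit false
universe u' v' v u

namespace Groth.Agent.PicCatLib

open CategoryTheory MonoidalCategory Functor.LaxMonoidal

/-- Objects of the Picardification; `p`, `q` only record the universes of the models. -/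
inductive Obj (A : Type u) (p : PUnit.{u'+1}) (q : PUnit.{v'+1}) : Type u
  | of : A → Obj A p q
  | unit : Obj A p q
  | tensor : Obj A p q → Obj A p q → Obj A p q
  | inv : Obj A p q → Obj A p q

variable (A : Type u) [Category.{v} A] [MonoidalCategory A] [SymmetricCategory A]
  (p : PUnit.{u'+1}) (q : PUnit.{v'+1})

/-- Formal morphisms. -/
inductive HomT : Obj A p q → Obj A p q → Type (max u v)
  | id (X) : HomT X X
  | comp {X Y Z} : HomT X Y → HomT Y Z → HomT X Z
  | sym {X Y} : HomT X Y → HomT Y X
  | whL (X) {Y Z} : HomT Y Z → HomT (.tensor X Y) (.tensor X Z)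
  | whR {Y Z} : HomT Y Z → (X : Obj A p q) → HomT (.tensor Y X) (.tensor Z X)
  | assoc (X Y Z) : HomT (.tensor (.tensor X Y) Z) (.tensor X (.tensor Y Z))
  | lunit (X) : HomT (.tensor .unit X) X
  | runit (X) : HomT (.tensor X .unit) X
  | braid (X Y) : HomT (.tensor X Y) (.tensor Y X)
  | ev (X) : HomT (.tensor (.inv X) X) .unit
  | ofHom {a b : A} : (a ⟶ b) → HomT (.of a) (.of b)
  | mu (a b : A) : HomT (.tensor (.of a) (.of b)) (.of (a ⊗ b))
  | eps : HomT .unit (.of (𝟙_ A))

set_option linter.checkUnivs false in
/-- A model: a commutative Picard category under `A` with chosen inverses. -/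
structure Model : Type (max u v (u'+1) (v'+1)) where
  P : Type u'
  [cat : Category.{v'} P]
  [mon : MonoidalCategory P]
  [sym : SymmetricCategory P]
  [grpd : IsGroupoid P]
  Φ : A ⥤ P
  [lax : Φ.LaxBraided]
  I : P → P
  /-- The chosen object is an inverse. -/
  e : ∀ Y : P, I Y ⊗ Y ≅ 𝟙_ P

attribute [instance] Model.cat Model.mon Model.sym Model.grpd Model.lax

variable {A p q}

namespace Model

/-- Value of an object in a model. -/
def obj (M : Model.{u', v'} A) : Obj A p q → M.P
  | .of a => M.Φ.obj a
  | .unit => 𝟙_ M.P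
  | .tensor X Y => M.obj X ⊗ M.obj Y
  | .inv X => M.I (M.obj X)

/-- Value of a morphism in a model. -/
noncomputable def map (M : Model.{u', v'} A) :
    ∀ {X Y : Obj A p q}, HomT A p q X Y → (M.obj X ⟶ M.obj Y)
  | _, _, .id _ => 𝟙 _
  | _, _, .comp f g => M.map f ≫ M.map g
  | _, _, .sym f => CategoryTheory.inv (M.map f)
  | _, _, .whL X f => M.obj X ◁ M.map f
  | _, _, .whR f X => M.map f ▷ M.obj X
  | _, _, .assoc _ _ _ => (α_ _ _ _).hom
  | _, _, .lunit _ => (λ_ _).hom
  | _, _, .runit _ => (ρ_ _).hom
  | _, _, .braid _ _ => (β_ _ _).hom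
  | _, _, .ev _ => (M.e _).hom
  | _, _, .ofHom f => M.Φ.map f
  | _, _, .mu a b => μ M.Φ a b
  | _, _, .eps => ε M.Φ

end Model

variable (A p q) in
/-- Two formal morphisms are identified when their values agree in every model. -/
def homSetoid (X Y : Obj A p q) : Setoid (HomT A p q X Y) where
  r f g := ∀ M : Model.{u', v'} A, M.map f = M.map g
  iseqv := ⟨fun _ _ => rfl, fun h M => (h M).symm, fun h h' M => (h M).trans (h' M)⟩

instance : CategoryStruct.{max u v} (Obj A p q) where
  Hom X Y := Quotient (homSetoid A p q X Y)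
  id X := ⟦.id X⟧
  comp := Quotient.map₂ HomT.comp (fun f f' hf g g' hg M => by simp [Model.map, hf M, hg M])

/-- The class of a formal morphism. -/
def mk {X Y : Obj A p q} (f : HomT A p q X Y) : X ⟶ Y := Quotient.mk _ f

theorem mk_eq {X Y : Obj A p q} {f g : HomT A p q X Y}
    (h : ∀ M : Model.{u', v'} A, M.map f = M.map g) : mk f = mk g := Quotient.sound h

@[elab_as_elim]
theorem hom_ind {X Y : Obj A p q} {C : (X ⟶ Y) → Prop} (h : ∀ f, C (mk f)) (f : X ⟶ Y) : C f :=
  Quotient.ind h f

theorem mk_id (X : Obj A p q) : 𝟙 X = mk (.id X) := rfl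

theorem mk_comp {X Y Z : Obj A p q} (f : HomT A p q X Y) (g : HomT A p q Y Z) :
    mk f ≫ mk g = mk (.comp f g) := rfl

instance : Category.{max u v} (Obj A p q) where
  id_comp f := by induction f using hom_ind; exact mk_eq (fun M => by simp [Model.map])
  comp_id f := by induction f using hom_ind; exact mk_eq (fun M => by simp [Model.map])
  assoc f g h := by
    induction f using hom_ind; induction g using hom_ind; induction h using hom_ind
    exact mk_eq (fun M => by simp [Model.map])

/-- Formal inverse. -/
def symIso {X Y : Obj A p q} (f : HomT A p q X Y) : X ≅ Y where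
  hom := mk f
  inv := mk (.sym f)
  hom_inv_id := mk_eq (fun M => by simp [Model.map])
  inv_hom_id := mk_eq (fun M => by simp [Model.map])

instance : IsGroupoid (Obj A p q) where
  all_isIso f := by induction f using hom_ind with | h f => exact (symIso f).isIso_hom

instance : MonoidalCategoryStruct (Obj A p q) where
  tensorObj := .tensor
  whiskerLeft X _ _ := Quotient.map (HomT.whL X) (fun f f' h M => by simp only [Model.map]; rw [h M])
  whiskerRight f X := Quotient.map (fun g => HomT.whR g X)
    (fun f f' h M => by simp only [Model.map]; rw [h M]) f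
  tensorHom {X₁ Y₁ X₂ Y₂} := Quotient.map₂ (fun f g => HomT.comp (.whR f X₂) (.whL Y₁ g))
    (fun f f' hf g g' hg M => by simp [Model.map, hf M, hg M])
  tensorUnit := .unit
  associator X Y Z := symIso (.assoc X Y Z)
  leftUnitor X := symIso (.lunit X)
  rightUnitor X := symIso (.runit X)

@[simp]
theorem Model.obj_tensorObj (M : Model.{u', v'} A) (X Y : Obj A p q) :
    M.obj (X ⊗ Y) = (M.obj X ⊗ M.obj Y) := rfl

@[simp]
theorem Model.obj_tensorUnit (M : Model.{u', v'} A) :
    M.obj (𝟙_ (Obj A p q)) = 𝟙_ M.P := rfl

instance : MonoidalCategory (Obj A p q) where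
  tensorHom_def f g := by induction f using hom_ind; induction g using hom_ind; rfl
  id_tensorHom_id X Y := mk_eq (fun M => by dsimp [Model.map, Model.obj]; simp)
  tensorHom_comp_tensorHom f₁ f₂ g₁ g₂ := by
    induction f₁ using hom_ind; induction f₂ using hom_ind
    induction g₁ using hom_ind; induction g₂ using hom_ind
    exact mk_eq (fun M => by dsimp [Model.map, Model.obj]; simp [whisker_exchange_assoc])
  whiskerLeft_id X Y := mk_eq (fun M => by dsimp [Model.map, Model.obj]; simp)
  id_whiskerRight X Y := mk_eq (fun M => by dsimp [Model.map, Model.obj]; simp)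
  associator_naturality f₁ f₂ f₃ := by
    induction f₁ using hom_ind; induction f₂ using hom_ind; induction f₃ using hom_ind
    exact mk_eq (fun M => by dsimp [Model.map, Model.obj]; simp)
  leftUnitor_naturality f := by
    induction f using hom_ind; exact mk_eq (fun M => by dsimp [Model.map, Model.obj]; simp)
  rightUnitor_naturality f := by
    induction f using hom_ind; exact mk_eq (fun M => by dsimp [Model.map, Model.obj]; simp)
  pentagon W X Y Z := mk_eq (fun M => by dsimp [Model.map, Model.obj]; simp)
  triangle X Y := mk_eq (fun M => by dsimp [Model.map, Model.obj]; simp)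

instance : SymmetricCategory (Obj A p q) where
  braiding X Y := symIso (.braid X Y)
  braiding_naturality_right X _ _ f := by
    induction f using hom_ind; exact mk_eq (fun M => by dsimp [Model.map, Model.obj]; simp)
  braiding_naturality_left f X := by
    induction f using hom_ind; exact mk_eq (fun M => by dsimp [Model.map, Model.obj]; simp)
  hexagon_forward X Y Z := mk_eq (fun M => by dsimp [Model.map, Model.obj]; simp)
  hexagon_reverse X Y Z := mk_eq (fun M => by dsimp [Model.map, Model.obj]; simp)
  symmetry X Y := mk_eq (fun M => by dsimp [Model.map, Model.obj]; simp)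

variable (A p q) in
/-- The functor `A ⥤ Obj A p q`. -/
def incl : A ⥤ Obj A p q where
  obj a := .of a
  map f := mk (.ofHom f)
  map_id a := mk_eq (fun M => M.Φ.map_id a)
  map_comp f g := mk_eq (fun M => M.Φ.map_comp f g)

instance : (incl A p q).LaxMonoidal where
  ε := mk .eps
  μ a b := mk (.mu a b)
  μ_natural_left f b := mk_eq (fun M => μ_natural_left M.Φ f b)
  μ_natural_right b f := mk_eq (fun M => μ_natural_right M.Φ b f)
  associativity a b c := mk_eq (fun M => associativity M.Φ a b c)
  left_unitality a := mk_eq (fun M => left_unitality M.Φ a)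
  right_unitality a := mk_eq (fun M => right_unitality M.Φ a)

instance : (incl A p q).LaxBraided where
  braided a b := mk_eq (fun M => Functor.LaxBraided.braided a b)

/-- `inv X` is inverse to `X`. -/
def evIso (X : Obj A p q) : Obj.inv X ⊗ X ≅ 𝟙_ (Obj A p q) := symIso (.ev X)

/-- Tensoring with an object having an inverse is an equivalence. -/
theorem isEquivalence_tensorLeft (X : Obj A p q) : (tensorLeft X).IsEquivalence := by
  let e' : X ⊗ Obj.inv X ≅ 𝟙_ (Obj A p q) := β_ _ _ ≪≫ evIso X
  exact (CategoryTheory.Equivalence.mk (tensorLeft X) (tensorLeft (Obj.inv X))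
    ((leftUnitorNatIso _).symm ≪≫ (curriedTensor _).mapIso (evIso X).symm ≪≫ tensorLeftTensor _ _)
    ((tensorLeftTensor _ _).symm ≪≫ (curriedTensor _).mapIso e' ≪≫
      leftUnitorNatIso _)).isEquivalence_functor

theorem isEquivalence_tensorRight (X : Obj A p q) : (tensorRight X).IsEquivalence := by
  have := isEquivalence_tensorLeft X
  exact Functor.isEquivalence_of_iso (BraidedCategory.tensorLeftIsoTensorRight X)

/-- The functor out of the Picardification given by a model. -/
noncomputable def Model.functor (M : Model.{u', v'} A) : Obj A p q ⥤ M.P where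
  obj := M.obj
  map := Quotient.lift M.map (fun _ _ h => h M)
  map_id _ := rfl
  map_comp f g := by induction f using hom_ind; induction g using hom_ind; rfl

noncomputable instance (M : Model.{u', v'} A) :
    (M.functor : Obj A p q ⥤ M.P).LaxMonoidal where
  ε := 𝟙 _
  μ _ _ := 𝟙 _
  μ_natural_left f X := by
    induction f using hom_ind; exact (Category.comp_id _).trans (Category.id_comp _).symm
  μ_natural_right X f := by
    induction f using hom_ind; exact (Category.comp_id _).trans (Category.id_comp _).symm
  associativity X Y Z := by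
    change (𝟙 _ ▷ M.obj Z) ≫ 𝟙 _ ≫ (α_ _ _ _).hom = (α_ _ _ _).hom ≫ (M.obj X ◁ 𝟙 _) ≫ 𝟙 _
    simp
  left_unitality X := by
    change (λ_ (M.obj X)).hom = (𝟙 _ ▷ M.obj X) ≫ 𝟙 _ ≫ (λ_ (M.obj X)).hom
    simp
  right_unitality X := by
    change (ρ_ (M.obj X)).hom = (M.obj X ◁ 𝟙 _) ≫ 𝟙 _ ≫ (ρ_ (M.obj X)).hom
    simp

noncomputable instance (M : Model.{u', v'} A) :
    (M.functor : Obj A p q ⥤ M.P).LaxBraided where
  braided X Y := (Category.id_comp _).trans (Category.comp_id _).symm

/-- The functor of a model extends the functor from `A`. -/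
noncomputable def Model.inclIso (M : Model.{u', v'} A) : incl A p q ⋙ M.functor ≅ M.Φ :=
  NatIso.ofComponents (fun a => Iso.refl _) (fun f => by
    exact (Category.comp_id _).trans (Category.id_comp _).symm)

theorem Model.inclIso_isMonoidal (M : Model.{u', v'} A) :
    NatTrans.IsMonoidal (M.inclIso (p := p) (q := q)).hom where
  unit := by
    change (𝟙 _ ≫ ε M.Φ) ≫ 𝟙 _ = ε M.Φ
    simp
  tensor a b := by
    change (𝟙 _ ≫ μ M.Φ a b) ≫ 𝟙 _ = (𝟙 (M.Φ.obj a) ⊗ₘ 𝟙 (M.Φ.obj b)) ≫ μ M.Φ a b
    simp

/-- Every model gives an extension of its functor to the Picardification. -/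
theorem Model.exists_extend (M : Model.{u', v'} A) :
    ∃ (Ψ : Obj A p q ⥤ M.P) (_ : Ψ.LaxBraided) (η : incl A p q ⋙ Ψ ≅ M.Φ),
      NatTrans.IsMonoidal η.hom :=
  ⟨M.functor, inferInstance, M.inclIso, M.inclIso_isMonoidal⟩

end Groth.Agent.PicCatLib
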