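import Groth.Agent.PicCatLib.Picardify

/-!
# Monoidal transformations out of the Picardification
-/

set_option autoImplicit false
universe u' v' v u

namespace Groth.Agent.PicCatLib

open CategoryTheory MonoidalCategory Functor.LaxMonoidal

variable {A : Type u} [Category.{v} A] [MonoidalCategory A] [SymmetricCategory A]
  {p : PUnit.{u'+1}} {q : PUnit.{v'+1}}
  {P : Type u'} [Category.{v'} P] [MonoidalCategory P] [SymmetricCategory P] [IsGroupoid P]
  (hP : ∀ X : P, (tensorLeft X).IsEquivalence ∧ (tensorRight X).IsEquivalence)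
  {Ψ Ψ' : Obj A p q ⥤ P} [Ψ.LaxBraided] [Ψ'.LaxBraided]
  (τ : incl A p q ⋙ Ψ ⟶ incl A p q ⋙ Ψ')

include hP in
theorem exists_unique_whiskerRight {Y Z : P} (X : P) (h : Y ⊗ X ⟶ Z ⊗ X) :
    ∃! g : Y ⟶ Z, g ▷ X = h := by
  have := (hP X).2
  exact ⟨(tensorRight X).preimage h, (tensorRight X).map_preimage h,
    fun g hg => (tensorRight X).map_injective
      (hg.trans ((tensorRight X).map_preimage h).symm)⟩

/-- The components of the extension of `τ`. -/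
noncomputable def ext : ∀ X : Obj A p q, Ψ.obj X ⟶ Ψ'.obj X
  | .of a => τ.app a
  | .unit => inv (ε Ψ) ≫ ε Ψ'
  | .tensor X Y => inv (μ Ψ X Y) ≫ (ext X ⊗ₘ ext Y) ≫ μ Ψ' X Y
  | .inv X =>
    (exists_unique_whiskerRight hP (Ψ.obj X)
      (μ Ψ (.inv X) X ≫ Ψ.map (evIso X).hom ≫ (inv (ε Ψ) ≫ ε Ψ') ≫ Ψ'.map (evIso X).inv ≫
        inv (μ Ψ' (.inv X) X) ≫ inv (Ψ'.obj (.inv X) ◁ ext X))).exists.choose

theorem ext_unit_spec : ε Ψ ≫ ext hP τ (𝟙_ _) = ε Ψ' := by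
  change ε Ψ ≫ inv (ε Ψ) ≫ ε Ψ' = _
  simp

theorem ext_tensor_spec (X Y : Obj A p q) :
    μ Ψ X Y ≫ ext hP τ (X ⊗ Y) = (ext hP τ X ⊗ₘ ext hP τ Y) ≫ μ Ψ' X Y := by
  change μ Ψ X Y ≫ inv (μ Ψ X Y) ≫ (ext hP τ X ⊗ₘ ext hP τ Y) ≫ μ Ψ' X Y = _
  simp

theorem ext_inv_spec (X : Obj A p q) :
    (ext hP τ (.inv X) ⊗ₘ ext hP τ X) ≫ μ Ψ' (.inv X) X ≫ Ψ'.map (evIso X).hom =
      μ Ψ (.inv X) X ≫ Ψ.map (evIso X).hom ≫ ext hP τ (𝟙_ _) := by
  have h := (exists_unique_whiskerRight hP (Ψ.obj X)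
      (μ Ψ (.inv X) X ≫ Ψ.map (evIso X).hom ≫ (inv (ε Ψ) ≫ ε Ψ') ≫ Ψ'.map (evIso X).inv ≫
        inv (μ Ψ' (.inv X) X) ≫ inv (Ψ'.obj (.inv X) ◁ ext hP τ X))).exists.choose_spec
  change ext hP τ (.inv X) ▷ Ψ.obj X = _ at h
  rw [MonoidalCategory.tensorHom_def, h]
  change _ = μ Ψ (.inv X) X ≫ Ψ.map (evIso X).hom ≫ (inv (ε Ψ) ≫ ε Ψ')
  simp [← Functor.map_comp]

theorem eq_inv_comp_comp {C : Type u'} [Category.{v'} C] {W X Y Z : C} (f : W ⟶ X) [IsIso f]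
    {a : X ⟶ Z} {b : W ⟶ Y} {c : Y ⟶ Z} (h : f ≫ a = b ≫ c) : a = inv f ≫ b ≫ c := by
  simp [← h]

theorem naturality_inv {X Y : Obj A p q} (f : X ⟶ Y) [IsIso f] {θX : Ψ.obj X ⟶ Ψ'.obj X}
    {θY : Ψ.obj Y ⟶ Ψ'.obj Y} (h : Ψ.map f ≫ θY = θX ≫ Ψ'.map f) :
    Ψ.map (inv f) ≫ θX = θY ≫ Ψ'.map (inv f) := by
  rw [Functor.map_inv, Functor.map_inv, IsIso.inv_comp_eq, ← Category.assoc, IsIso.eq_comp_inv]
  exact h.symm

theorem ext_naturality [hτ : NatTrans.IsMonoidal τ] :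
    ∀ {X Y : Obj A p q} (f : HomT A p q X Y),
      Ψ.map (mk f) ≫ ext hP τ Y = ext hP τ X ≫ Ψ'.map (mk f) := by
  intro X Y f
  induction f with
  | id X => rw [← mk_id]; simp
  | comp f g hf hg =>
    rw [← mk_comp, Functor.map_comp, Functor.map_comp, Category.assoc, hg, reassoc_of% hf]
  | @sym X Y f hf =>
    have : mk (.sym f) = inv (mk f) :=
      (IsIso.inv_eq_of_hom_inv_id (symIso f).hom_inv_id).symm
    rw [this]
    exact naturality_inv (mk f) hf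
  | @whL X Y Z f hf =>
    change Ψ.map (X ◁ mk f) ≫ ext hP τ (X ⊗ Z) = ext hP τ (X ⊗ Y) ≫ Ψ'.map (X ◁ mk f)
    rw [← cancel_epi (μ Ψ X Y), ← μ_natural_right_assoc, ext_tensor_spec,
      reassoc_of% (ext_tensor_spec hP τ X Y), ← μ_natural_right]
    simp only [← id_tensorHom, tensorHom_comp_tensorHom_assoc, Category.id_comp, Category.comp_id,
      hf]
  | @whR Y Z f X hf =>
    change Ψ.map (mk f ▷ X) ≫ ext hP τ (Z ⊗ X) = ext hP τ (Y ⊗ X) ≫ Ψ'.map (mk f ▷ X)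
    rw [← cancel_epi (μ Ψ Y X), ← μ_natural_left_assoc, ext_tensor_spec,
      reassoc_of% (ext_tensor_spec hP τ Y X), ← μ_natural_left]
    simp only [← tensorHom_id, tensorHom_comp_tensorHom_assoc, Category.id_comp, Category.comp_id,
      hf]
  | assoc X Y Z =>
    change Ψ.map (α_ X Y Z).hom ≫ ext hP τ (X ⊗ Y ⊗ Z) =
      ext hP τ ((X ⊗ Y) ⊗ Z) ≫ Ψ'.map (α_ X Y Z).hom
    rw [← cancel_epi (μ Ψ (X ⊗ Y) Z), ← cancel_epi (μ Ψ X Y ▷ Ψ.obj Z), associativity_assoc,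
      ext_tensor_spec, reassoc_of% (ext_tensor_spec hP τ (X ⊗ Y) Z)]
    simp only [← tensorHom_id, ← id_tensorHom, tensorHom_comp_tensorHom_assoc, ext_tensor_spec,
      Category.id_comp]
    rw [← Category.comp_id (ext hP τ X), ← tensorHom_comp_tensorHom_assoc,
      ← associator_naturality_assoc, Category.comp_id, id_tensorHom, ← associativity]
    simp only [← tensorHom_id, ← id_tensorHom, tensorHom_comp_tensorHom_assoc, Category.comp_id]
  | lunit X =>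
    change Ψ.map (λ_ X).hom ≫ ext hP τ X = ext hP τ (𝟙_ _ ⊗ X) ≫ Ψ'.map (λ_ X).hom
    rw [← cancel_epi (μ Ψ (𝟙_ _) X), ← cancel_epi (ε Ψ ▷ Ψ.obj X),
      reassoc_of% (ext_tensor_spec hP τ (𝟙_ _) X), ← left_unitality_assoc]
    simp only [← tensorHom_id, tensorHom_comp_tensorHom_assoc, ext_unit_spec, Category.id_comp]
    rw [MonoidalCategory.tensorHom_def', Category.assoc, ← left_unitality, leftUnitor_naturality]
  | runit X =>
    change Ψ.map (ρ_ X).hom ≫ ext hP τ X = ext hP τ (X ⊗ 𝟙_ _) ≫ Ψ'.map (ρ_ X).hom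
    rw [← cancel_epi (μ Ψ X (𝟙_ _)), ← cancel_epi (Ψ.obj X ◁ ε Ψ),
      reassoc_of% (ext_tensor_spec hP τ X (𝟙_ _)), ← right_unitality_assoc]
    simp only [← id_tensorHom, tensorHom_comp_tensorHom_assoc, ext_unit_spec, Category.id_comp]
    rw [MonoidalCategory.tensorHom_def, Category.assoc, ← right_unitality, rightUnitor_naturality]
  | braid X Y =>
    change Ψ.map (β_ X Y).hom ≫ ext hP τ (Y ⊗ X) = ext hP τ (X ⊗ Y) ≫ Ψ'.map (β_ X Y).hom
    rw [← cancel_epi (μ Ψ X Y), reassoc_of% (ext_tensor_spec hP τ X Y),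
      reassoc_of% (Functor.LaxBraided.braided (F := Ψ) X Y), ext_tensor_spec,
      Functor.LaxBraided.braided (F := Ψ') X Y, BraidedCategory.braiding_naturality_assoc]
  | ev X =>
    change Ψ.map (evIso X).hom ≫ ext hP τ (𝟙_ _) =
      ext hP τ (Obj.inv X ⊗ X) ≫ Ψ'.map (evIso X).hom
    rw [← cancel_epi (μ Ψ (Obj.inv X) X), reassoc_of% (ext_tensor_spec hP τ (Obj.inv X) X),
      ext_inv_spec]
  | ofHom f => exact τ.naturality f
  | mu a b =>
    have h := hτ.tensor a b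
    change (μ Ψ (.of a) (.of b) ≫ Ψ.map (mk (.mu a b))) ≫ ext hP τ (.of (a ⊗ b)) =
      (ext hP τ (.of a) ⊗ₘ ext hP τ (.of b)) ≫
        μ Ψ' (.of a) (.of b) ≫ Ψ'.map (mk (.mu a b)) at h
    change _ = ext hP τ (Obj.of a ⊗ Obj.of b) ≫ _
    rw [← reassoc_of% (ext_tensor_spec hP τ (.of a) (.of b)), Category.assoc] at h
    exact (cancel_epi (μ Ψ (Obj.of a) (Obj.of b))).mp h
  | eps =>
    have h := hτ.unit
    change (ε Ψ ≫ Ψ.map (mk .eps)) ≫ ext hP τ (.of (𝟙_ A)) = ε Ψ' ≫ Ψ'.map (mk .eps) at h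
    change _ = ext hP τ (𝟙_ _) ≫ _
    rw [← cancel_epi (ε Ψ), reassoc_of% (ext_unit_spec hP τ)]
    rwa [Category.assoc] at h

/-- The extension of a monoidal transformation to the Picardification. -/
noncomputable def extNatTrans [NatTrans.IsMonoidal τ] : Ψ ⟶ Ψ' where
  app := ext hP τ
  naturality X Y f := by induction f using hom_ind with | h f => exact ext_naturality hP τ f

include hP in
/-- A monoidal transformation on the Picardification is determined by its restriction to `A`. -/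
theorem natTrans_ext {θ θ' : Ψ ⟶ Ψ'} [h : NatTrans.IsMonoidal θ] [h' : NatTrans.IsMonoidal θ']
    (e : Functor.whiskerLeft (incl A p q) θ = Functor.whiskerLeft (incl A p q) θ') : θ = θ' := by
  ext X
  have hu : θ.app (𝟙_ _) = θ'.app (𝟙_ _) := (cancel_epi (ε Ψ)).mp (h.unit.trans h'.unit.symm)
  induction X with
  | of a => exact congrArg (fun t => t.app a) e
  | unit => exact hu
  | tensor X Y hX hY =>
    refine (cancel_epi (μ Ψ X Y)).mp ((h.tensor X Y).trans ?_)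
    rw [hX, hY]; exact (h'.tensor X Y).symm
  | inv X hX =>
    have hn := θ.naturality (evIso X).hom
    have hn' := θ'.naturality (evIso X).hom
    rw [hu, hn', cancel_mono] at hn
    have ht := (h.tensor (Obj.inv X) X).symm.trans ((congrArg (_ ≫ ·) hn.symm).trans
      (h'.tensor (Obj.inv X) X))
    rw [cancel_mono, MonoidalCategory.tensorHom_def, MonoidalCategory.tensorHom_def, hX,
      cancel_mono] at ht
    exact (exists_unique_whiskerRight hP (Ψ.obj X) _).unique ht rfl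

include hP in
theorem existsUnique_ext [hτ : NatTrans.IsMonoidal τ] :
    ∃! θ : Ψ ⟶ Ψ', NatTrans.IsMonoidal θ ∧ Functor.whiskerLeft (incl A p q) θ = τ := by
  refine ⟨extNatTrans hP τ, ⟨⟨ext_unit_spec hP τ, ext_tensor_spec hP τ⟩, rfl⟩, ?_⟩
  rintro θ ⟨hm, rfl⟩
  have := hm
  have : NatTrans.IsMonoidal (extNatTrans hP (Functor.whiskerLeft (incl A p q) θ)) :=
    ⟨ext_unit_spec hP (Functor.whiskerLeft (incl A p q) θ),
      ext_tensor_spec hP (Functor.whiskerLeft (incl A p q) θ)⟩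
  exact natTrans_ext hP rfl

end Groth.Agent.PicCatLib
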